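import Groth.Agent.Curves.K756.LatFree
import Groth.Agent.Curves.K321.LatSum

/-!
# The dual lattice on a curve

Helper file for Mori's dimension bound (node 3 of helper756): frames of nice families, the frames of the dual lattice
of a finite locally free module, and twists of lattices by points.
-/

set_option autoImplicit false
universe u
open CategoryTheory CategoryTheory.Limits AlgebraicGeometry TopologicalSpace Opposite Module

namespace K703.LatDual

open Groth.Agent Groth.Agent.CycB K475.GenStalk K756.LatSh K321.LatLoc K321.LatRoof K321.LatSum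
open Groth.Agent.Sga67.Sec Groth.Agent.Sga67.LocBasis Groth.Agent.Sga67.LocBasisStalk
open Groth.Agent.Krr.H487.LocBasisPull

set_option linter.unusedSectionVars false

variable {C : Scheme.{u}} [IsIntegral C]
  {W : Type u} [AddCommGroup W] [∀ x : C, Module (C.presheaf.stalk x) W] [Module C.functionField W]
  [∀ x : C, IsScalarTower (C.presheaf.stalk x) C.functionField W]

/-- `v` is a frame of the family `P` near `x`. -/
def IsFrame (P : ∀ x : C, Submodule (C.presheaf.stalk x) W) {n : ℕ} (x : C) (v : Fin n → W) : Prop :=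
  ∃ U : C.Opens, x ∈ U ∧ LinearIndependent C.functionField v ∧
    ∀ y ∈ U, P y = Submodule.span (C.presheaf.stalk y) (Set.range v)

theorem nice_iff {P : ∀ x : C, Submodule (C.presheaf.stalk x) W} {n : ℕ} :
    Nice P n ↔ ∀ x, ∃ v : Fin n → W, IsFrame P x v := by
  constructor
  · intro h x
    obtain ⟨U, hx, v, h1, h2⟩ := h x
    exact ⟨v, U, hx, h1, h2⟩
  · intro h x
    obtain ⟨v, U, hx, h1, h2⟩ := h x
    exact ⟨U, hx, v, h1, h2⟩

/-- The linear forms on the generic stalk of `M` that are integral at `x`. -/
def IsIntAt (M : C.Modules) (x : C)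
    (ξ : Module.Dual C.functionField (M.presheaf.stalk (genericPoint C))) : Prop :=
  ∀ m : M.presheaf.stalk x, ξ (M.presheaf.stalkSpecializes (genericPoint_specializes x) m) ∈
    (algebraMap (C.presheaf.stalk x) C.functionField).range

theorem isIntAt_iff {M : C.Modules} {n : ℕ} {U : C.Opens} (s : Fin n → Sec M U) (hs : IsLocBasis s)
    (hη : genericPoint C ∈ U)
    (β : Basis (Fin n) (C.presheaf.stalk (genericPoint C)) (M.presheaf.stalk (genericPoint C)))
    (hβ : ∀ k, β k = ger M (genericPoint C) hη (s k)) {y : C} (hy : y ∈ U)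
    (ξ : Module.Dual C.functionField (M.presheaf.stalk (genericPoint C))) :
    IsIntAt M y ξ ↔ ∀ i, ξ (β i) ∈ (algebraMap (C.presheaf.stalk y) C.functionField).range := by
  obtain ⟨b, hb⟩ := exists_stalkBasis hs y hy
  constructor
  · intro h i
    have h1 := h (b i)
    rw [hb, spec_ger hy hη, ← hβ] at h1
    exact h1
  · intro h m
    have e1 : M.presheaf.stalkSpecializes (genericPoint_specializes y) m =
        ∑ i, algebraMap (C.presheaf.stalk y) C.functionField (b.repr m i) • β i := by
      conv_lhs => rw [← b.sum_repr m]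
      rw [map_sum]
      refine Finset.sum_congr rfl fun i _ => ?_
      rw [spec_smul, hb, hβ]
      congr 1
      exact spec_ger hy hη _
    rw [e1, map_sum]
    refine sum_mem fun i _ => ?_
    rw [map_smul, smul_eq_mul]
    exact mul_mem (RingHom.mem_range_self _ _) (h i)

/-- The dual frame of a local basis. -/
theorem isFrame_dual {M : C.Modules} {n : ℕ} (P : ∀ x : C, Submodule (C.presheaf.stalk x) W)
    (Φ : Module.Dual C.functionField (M.presheaf.stalk (genericPoint C)) →ₗ[C.functionField] W)
    (hΦ : Function.Injective Φ)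
    (hP : ∀ (x : C) (w : W), w ∈ P x ↔ ∃ ξ, IsIntAt M x ξ ∧ Φ ξ = w) (x : C)
    (β : Basis (Fin n) (C.presheaf.stalk (genericPoint C)) (M.presheaf.stalk (genericPoint C)))
    (hβ : LocAt M x β) : IsFrame P x (fun i => Φ (β.coord i)) := by
  obtain ⟨U, hx, hη, s, hs, hβs⟩ := hβ
  refine ⟨U, hx, ?_, fun y hy => ?_⟩
  · have h1 : LinearIndependent C.functionField β.dualBasis := β.dualBasis.linearIndependent
    have h2 := h1.map' Φ (LinearMap.ker_eq_bot.mpr hΦ)
    rwa [Basis.coe_dualBasis] at h2
  · ext w
    rw [hP, Submodule.mem_span_range_iff_exists_fun]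
    constructor
    · rintro ⟨ξ, hξ, rfl⟩
      rw [isIntAt_iff s hs hη β hβs hy] at hξ
      choose c hc using hξ
      refine ⟨c, ?_⟩
      have e : ξ = ∑ i, ξ (β i) • β.coord i := by
        refine β.ext fun j => ?_
        rw [LinearMap.sum_apply, Finset.sum_eq_single j]
        · rw [LinearMap.smul_apply, Basis.coord_apply, Basis.repr_self, Finsupp.single_eq_same, smul_eq_mul, mul_one]
        · intro i _ hi
          rw [LinearMap.smul_apply, Basis.coord_apply, Basis.repr_self, Finsupp.single_eq_of_ne hi, smul_zero]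
        · intro h
          exact absurd (Finset.mem_univ j) h
      conv_rhs => rw [e, map_sum]
      refine Finset.sum_congr rfl fun i _ => ?_
      rw [map_smul, ← hc i]
      exact (algebraMap_smul _ (c i) _).symm
    · rintro ⟨c, rfl⟩
      refine ⟨∑ i, algebraMap (C.presheaf.stalk y) C.functionField (c i) • β.coord i, ?_, ?_⟩
      · rw [isIntAt_iff s hs hη β hβs hy]
        intro j
        refine ⟨c j, ?_⟩
        rw [LinearMap.sum_apply, Finset.sum_eq_single j]
        · rw [LinearMap.smul_apply, Basis.coord_apply, Basis.repr_self, Finsupp.single_eq_same, smul_eq_mul, mul_one]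
        · intro i _ hi
          rw [LinearMap.smul_apply, Basis.coord_apply, Basis.repr_self, Finsupp.single_eq_of_ne hi, smul_zero]
        · intro h
          exact absurd (Finset.mem_univ j) h
      · rw [map_sum]
        refine Finset.sum_congr rfl fun i _ => ?_
        rw [map_smul]
        exact algebraMap_smul _ (c i) _

/-! ### The Euler characteristic of a nice family -/

theorem IsFrame.sum_mem {P : ∀ x : C, Submodule (C.presheaf.stalk x) W} {n : ℕ} {x : C} {v : Fin n → W}
    (hv : IsFrame P x v) (c : Fin n → C.presheaf.stalk x) :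
    ∑ i, algebraMap (C.presheaf.stalk x) C.functionField (c i) • v i ∈ P x := by
  obtain ⟨U, hx, -, h⟩ := hv
  rw [h x hx]
  refine _root_.sum_mem fun i _ => ?_
  rw [← smul_eq x]
  exact Submodule.smul_mem _ _ (Submodule.subset_span (Set.mem_range_self i))

theorem IsFrame.generic_mem {P : ∀ x : C, Submodule (C.presheaf.stalk x) W} {n : ℕ} {v : Fin n → W}
    (hv : IsFrame P (genericPoint C) v) (c : Fin n → C.functionField) :
    ∑ i, c i • v i ∈ P (genericPoint C) := by
  have h1 := hv.sum_mem c
  simp only [K756.LatFree.algebraMap_eta] at h1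
  exact h1

variable (k : Type u) [Field k] [C.Over (Spec (CommRingCat.of k))] [IsProper (C ↘ Spec (CommRingCat.of k))]

/-- The Euler characteristic of the sheaf of a nice family, from frames `v x` and a rational basis `w`. -/
theorem euler_nice (hdim : topologicalKrullDim C = 1)
    (hreg : ∀ x : C, IsPrincipalIdealRing (C.presheaf.stalk x)) {n : ℕ}
    {P : ∀ x : C, Submodule (C.presheaf.stalk x) W} (v : C → Fin n → W) (hv : ∀ x, IsFrame P x (v x))
    (w : Fin n → W) (hw : LinearIndependent C.functionField w)
    (A : C → Matrix (Fin n) (Fin n) C.functionField) (hA : ∀ x j, w j = ∑ i, A x i j • v x i) :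
    {x : C | CycAlg.ordFrac (C.presheaf.stalk x) C.functionField (A x).det ≠ 0}.Finite ∧
    Curv2.euler k C (mod P) - n * Curv2.euler k C (Coh.structureModule C) =
      ∑ᶠ x ∈ {x : C | IsClosed ({x} : Set C)}, ((C ↘ Spec (CommRingCat.of k)).residueDegree x : ℤ) *
        CycAlg.ordFrac (C.presheaf.stalk x) C.functionField (A x).det := by
  have hN : Nice P n := nice_iff.mpr fun x => ⟨v x, hv x⟩
  have h1 : ∀ x, ∃ β : Basis (Fin n) (C.presheaf.stalk (genericPoint C)) ((mod P).presheaf.stalk (genericPoint C)),
      LocAt (mod P) x β ∧ ∀ i, val P (genericPoint C) (β i) = v x i := by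
    intro x
    obtain ⟨U, hx, h2, h3⟩ := hv x
    exact K756.LatFree.exists_locAt hx (v x) h2 h3
  choose γ hγ hγv using h1
  have h4 : ∀ j, w j ∈ P (genericPoint C) := by
    intro j
    rw [hA (genericPoint C) j]
    exact (hv (genericPoint C)).generic_mem _
  have h5 : ∀ j, ∃ m : (mod P).presheaf.stalk (genericPoint C), val P (genericPoint C) m = w j := fun j =>
    (range_val P (genericPoint C) (w j)).mpr (hN.good _ _ (h4 j))
  choose E₀ hE₀ using h5
  have hli : LinearIndependent C.functionField E₀ := by
    refine LinearIndependent.of_comp (K756.LatFree.valK P) ?_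
    convert hw using 1
    funext j
    exact hE₀ j
  have hE' : ∃ E : Basis (Fin n) (C.presheaf.stalk (genericPoint C)) ((mod P).presheaf.stalk (genericPoint C)),
      ∀ j, E j = E₀ j := by
    have hcard : Fintype.card (Fin n) =
        Module.finrank C.functionField ((mod P).presheaf.stalk (genericPoint C)) :=
      (Module.finrank_eq_card_basis (R := C.functionField) (γ (genericPoint C))).symm
    have : Module.Finite C.functionField ((mod P).presheaf.stalk (genericPoint C)) :=
      Module.Finite.of_basis (γ (genericPoint C))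
    exact ⟨basisOfLinearIndependentOfCardEqFinrank' E₀ hli hcard, fun j =>
      congrFun (coe_basisOfLinearIndependentOfCardEqFinrank' E₀ hli hcard) j⟩
  obtain ⟨E, hE₁⟩ := hE'
  have hE : ∀ j, val P (genericPoint C) (E j) = w j := fun j => by rw [hE₁, hE₀]
  have key : ∀ x, (γ x).toMatrix E = A x := by
    intro x
    ext i j
    rw [Basis.toMatrix_apply]
    have h6 : E j = ∑ i, A x i j • γ x i := by
      apply val_injective P
      rw [hE, hA x j, map_sum]
      refine Finset.sum_congr rfl fun i _ => ?_
      rw [K756.LatFree.val_smul_eta, hγv]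
    rw [h6, map_sum, Finsupp.finsetSum_apply, Finset.sum_eq_single i]
    · rw [map_smul, Basis.repr_self, Finsupp.smul_apply, Finsupp.single_eq_same, smul_eq_mul, mul_one]
    · intro c _ hc
      rw [map_smul, Basis.repr_self, Finsupp.smul_apply, Finsupp.single_eq_of_ne hc.symm, smul_zero]
    · intro h
      exact absurd (Finset.mem_univ i) h
  have h7 := K321.LatSum.euler_eq k hdim hreg (K756.LatFree.isFinLocFreeOfRank hN) E γ hγ
  simp only [key] at h7
  exact h7

/-- **The dual lattice.** -/
theorem nice_dual (hdim : topologicalKrullDim C = 1)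
    (hreg : ∀ x : C, IsPrincipalIdealRing (C.presheaf.stalk x)) {M : C.Modules} {n : ℕ}
    (hM : FlatMod.IsFinLocFreeOfRank n M) (P : ∀ x : C, Submodule (C.presheaf.stalk x) W)
    (Φ : Module.Dual C.functionField (M.presheaf.stalk (genericPoint C)) →ₗ[C.functionField] W)
    (hΦ : Function.Injective Φ)
    (hP : ∀ (x : C) (w : W), w ∈ P x ↔ ∃ ξ, IsIntAt M x ξ ∧ Φ ξ = w) :
    Nice P n ∧ Curv2.euler k C (mod P) + Curv2.euler k C M = 2 * n * Curv2.euler k C (Coh.structureModule C) := by
  choose β hβ using fun x => exists_locAt' hM x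
  have hv : ∀ x, IsFrame P x (fun i => Φ ((β x).coord i)) := fun x => isFrame_dual P Φ hΦ hP x (β x) (hβ x)
  refine ⟨nice_iff.mpr fun x => ⟨_, hv x⟩, ?_⟩
  obtain ⟨e, he⟩ : ∃ e, e = β (genericPoint C) := ⟨_, rfl⟩
  have hw : LinearIndependent C.functionField (fun i => Φ (e.coord i)) := by
    rw [he]
    obtain ⟨-, -, h, -⟩ := hv (genericPoint C)
    exact h
  have hA : ∀ x j, Φ (e.coord j) = ∑ i, (e.toMatrix (β x)).transpose i j • Φ ((β x).coord i) := by
    intro x j
    simp only [← map_smul]
    rw [← map_sum]
    congr 1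
    refine (β x).ext fun l => ?_
    rw [LinearMap.sum_apply, Finset.sum_eq_single l]
    · rw [LinearMap.smul_apply, Basis.coord_apply, Basis.coord_apply, Basis.repr_self, Finsupp.single_eq_same,
        smul_eq_mul, mul_one, Matrix.transpose_apply, Basis.toMatrix_apply]
    · intro i _ hi
      rw [LinearMap.smul_apply, Basis.coord_apply, Basis.repr_self, Finsupp.single_eq_of_ne hi, smul_zero]
    · intro h
      exact absurd (Finset.mem_univ l) h
  obtain ⟨h1, h2⟩ := euler_nice k hdim hreg (fun x i => Φ ((β x).coord i)) hv _ hw _ hA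
  obtain ⟨h3, h4⟩ := K321.LatSum.euler_eq k hdim hreg hM e β hβ
  have key : ∀ x, CycAlg.ordFrac (C.presheaf.stalk x) C.functionField (e.toMatrix (β x)).transpose.det =
      0 - CycAlg.ordFrac (C.presheaf.stalk x) C.functionField ((β x).toMatrix e).det := by
    intro x
    have h5 : (e.toMatrix (β x)).transpose.det = ((β x).toMatrix e).det⁻¹ := by
      rw [Matrix.det_transpose]
      apply eq_inv_of_mul_eq_one_left
      rw [← Matrix.det_mul, Basis.toMatrix_mul_toMatrix_flip, Matrix.det_one]
    rw [h5, CycB.OrdFrac.ordFrac_inv, zero_sub]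
  have h6 : ∑ᶠ x ∈ {x : C | IsClosed ({x} : Set C)}, ((C ↘ Spec (CommRingCat.of k)).residueDegree x : ℤ) *
        CycAlg.ordFrac (C.presheaf.stalk x) C.functionField (e.toMatrix (β x)).transpose.det =
      - ∑ᶠ x ∈ {x : C | IsClosed ({x} : Set C)}, ((C ↘ Spec (CommRingCat.of k)).residueDegree x : ℤ) *
        CycAlg.ordFrac (C.presheaf.stalk x) C.functionField ((β x).toMatrix e).det := by
    rw [← zero_sub, ← finsum_mem_zero (s := {x : C | IsClosed ({x} : Set C)}),
      ← finsum_mem_sub _ _ _ (by simp) (finite_mul _ _ h3)]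
    refine finsum_mem_congr rfl fun x _ => ?_
    rw [key]
    ring
  rw [h6] at h2
  linarith

end K703.LatDual
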