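import Groth.Agent.Curves.K703.LatDual
import Groth.Agent.CurvesA.ResDegOne
import Groth.Agent.Ega4late.H533.NormalDesc
import Groth.Agent.Pi1.H389.DvrOrd

/-!
# Twisting a lattice on a curve by finitely many points
-/

set_option autoImplicit false
universe u
open CategoryTheory CategoryTheory.Limits AlgebraicGeometry TopologicalSpace Opposite Module

namespace K703.LatTwist

open Groth.Agent Groth.Agent.CycB K475.GenStalk K756.LatSh K321.LatLoc K321.LatRoof K321.LatSum
open Groth.Agent.CycB.DegIntegral K703.LatDual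

set_option linter.unusedSectionVars false

variable {C : Scheme.{u}} [IsIntegral C]
  {W : Type u} [AddCommGroup W] [∀ x : C, Module (C.presheaf.stalk x) W] [Module C.functionField W]
  [∀ x : C, IsScalarTower (C.presheaf.stalk x) C.functionField W]

theorem dvr_stalk {x : C} (hx : x ≠ genericPoint C) [IsPrincipalIdealRing (C.presheaf.stalk x)] :
    IsDiscreteValuationRing (C.presheaf.stalk x) :=
  { not_a_field' := fun h => hx (by
      have h1 : IsField (C.presheaf.stalk x) := IsLocalRing.isField_iff_maximalIdeal_eq.mpr h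
      exact (Ega4late.H533.NormalDesc.eq_of_specializes_of_isField h1 _ (spec x)).symm) }

theorem smul_range_span {x : C} (a : C.presheaf.stalk x) {n : ℕ} (v : Fin n → W) :
    Submodule.span (C.presheaf.stalk x) (Set.range fun i => algebraMap (C.presheaf.stalk x) C.functionField a • v i) =
      Ideal.span {a} • Submodule.span (C.presheaf.stalk x) (Set.range v) := by
  rw [Submodule.span_smul_span]
  congr 1
  ext w
  simp only [Set.mem_range, Set.singleton_smul, Set.mem_smul_set, exists_exists_eq_and, smul_eq x]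

variable (k : Type u) [Field k] [C.Over (Spec (CommRingCat.of k))] [IsProper (C ↘ Spec (CommRingCat.of k))]

include k in
/-- Frames of the twisted lattice. -/
theorem exists_frame (hdim : topologicalKrullDim C = 1)
    (hreg : ∀ x : C, IsPrincipalIdealRing (C.presheaf.stalk x)) {n : ℕ}
    (P P' : ∀ x : C, Submodule (C.presheaf.stalk x) W) (B : Finset C)
    (hB : ∀ b ∈ B, IsClosed ({b} : Set C))
    (h1 : ∀ x, x ∉ B → P' x = P x) (h2 : ∀ x ∈ B, P' x = IsLocalRing.maximalIdeal (C.presheaf.stalk x) • P x)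
    (x : C) (v : Fin n → W) (hv : IsFrame P x v) :
    ∃ t : C.functionField, t ≠ 0 ∧ IsFrame P' x (fun i => t • v i) ∧
      (x ∈ B → CycAlg.ordFrac (C.presheaf.stalk x) C.functionField t = 1) ∧
      (x ∉ B → CycAlg.ordFrac (C.presheaf.stalk x) C.functionField t = 0) := by
  classical
  have : IsLocallyNoetherian C := LocallyOfFiniteType.isLocallyNoetherian (C ↘ Spec (CommRingCat.of k))
  have : CompactSpace C := QuasiCompact.compactSpace_of_compactSpace (C ↘ Spec (CommRingCat.of k))
  have : IsNoetherian C := ⟨⟩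
  have : NoetherianSpace C := inferInstance
  obtain ⟨hcl, hgen, -⟩ := points k C hdim
  have hPx := hreg x
  obtain ⟨U, hxU, hli, hU⟩ := hv
  have hfin : ∀ F : Set C, F.Finite → (∀ y ∈ F, IsClosed ({y} : Set C)) → IsClosed F := by
    intro F hF h
    rw [← Set.biUnion_of_singleton F]
    exact hF.isClosed_biUnion h
  by_cases hx : x ∈ B
  · have hxη : x ≠ genericPoint C := fun h => hgen (h ▸ hB x hx)
    have := dvr_stalk hxη
    obtain ⟨π, hπ⟩ := IsDiscreteValuationRing.exists_irreducible (C.presheaf.stalk x)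
    have hinj : Function.Injective (algebraMap (C.presheaf.stalk x) C.functionField) := IsFractionRing.injective _ _
    have ht : algebraMap (C.presheaf.stalk x) C.functionField π ≠ 0 := (map_ne_zero_iff _ hinj).mpr hπ.ne_zero
    refine ⟨algebraMap _ _ π, ht, ?_, fun _ => Pi1.H389.DvrOrd.ord_irreducible hπ, fun h => absurd hx h⟩
    obtain ⟨V, hxV, f, rfl⟩ := TopCat.Presheaf.exists_germ_eq C.presheaf π
    have hη : genericPoint C ∈ V := mem_of_nonempty hxV
    have hfη : ∀ y (hy : y ∈ V), algebraMap (C.presheaf.stalk y) C.functionField (C.presheaf.germ V y hy f) =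
      algebraMap (C.presheaf.stalk x) C.functionField (C.presheaf.germ V x hxV f) := fun y hy => by
        rw [algebraMap_germ x hxV hη, algebraMap_germ y hy hη]
    let D : C.Opens := C.basicOpen f
    have hηD : genericPoint C ∈ D := by
      rw [Scheme.mem_basicOpen C f _ hη]
      rw [algebraMap_germ x hxV hη] at ht
      exact isUnit_iff_ne_zero.mpr ht
    have hDf : ((D : Set C)ᶜ).Finite := finite_of_isClosed_points D.2.isClosed_compl
      fun y hy => hcl y fun h => hy (h ▸ hηD)
    let F : Set C := ((D : Set C)ᶜ ∪ B) \ {x}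
    have hFc : IsClosed F := by
      refine hfin F ((hDf.union B.finite_toSet).subset Set.sdiff_subset) ?_
      rintro y ⟨hy | hy, -⟩
      · exact hcl y fun h => hy (h ▸ hηD)
      · exact hB y hy
    refine ⟨U ⊓ V ⊓ ⟨Fᶜ, hFc.isOpen_compl⟩, ⟨⟨hxU, hxV⟩, fun h => h.2 rfl⟩, ?_, ?_⟩
    · exact hli.units_smul (fun _ => Units.mk0 _ ht)
    · rintro y ⟨⟨hyU, hyV⟩, hyF⟩
      by_cases hyx : y = x
      · subst hyx
        rw [h2 _ hx, hU _ hyU, smul_range_span, hπ.maximalIdeal_eq]
      · have hyD : y ∈ D := by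
          by_contra h
          exact hyF ⟨Or.inl h, hyx⟩
        have hyB : y ∉ B := fun h => hyF ⟨Or.inr h, hyx⟩
        rw [h1 _ hyB, hU _ hyU, ← hfη y hyV, smul_range_span]
        have hu : IsUnit (C.presheaf.germ V y hyV f) := (Scheme.mem_basicOpen C f _ hyV).mp hyD
        rw [Ideal.span_singleton_eq_top.mpr hu, Submodule.top_smul]
  · refine ⟨1, one_ne_zero, ?_, fun h => absurd h hx, fun _ => CycB.OrdFrac.ordFrac_one _ _⟩
    refine ⟨U ⊓ ⟨(B : Set C)ᶜ, (hfin _ B.finite_toSet fun y hy => hB y hy).isOpen_compl⟩, ⟨hxU, hx⟩, ?_, ?_⟩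
    · simpa only [one_smul] using hli
    · rintro y ⟨hyU, hyB⟩
      simp only [one_smul]
      rw [h1 _ hyB, hU _ hyU]

theorem exists_coord {n : ℕ} {P : ∀ x : C, Submodule (C.presheaf.stalk x) W} {v : Fin n → W} {y : C}
    (h : P y = Submodule.span (C.presheaf.stalk y) (Set.range v)) (w : W) (hw : w ∈ P y) :
    ∃ c : Fin n → C.functionField, ∑ i, c i • v i = w := by
  rw [h, Submodule.mem_span_range_iff_exists_fun] at hw
  obtain ⟨c, hc⟩ := hw
  refine ⟨fun i => algebraMap _ _ (c i), ?_⟩
  simp only [smul_eq y] at hc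
  exact hc

theorem mem_of_frame {n : ℕ} {P : ∀ x : C, Submodule (C.presheaf.stalk x) W} {v : Fin n → W} {y : C}
    (h : P y = Submodule.span (C.presheaf.stalk y) (Set.range v)) (j : Fin n) : v j ∈ P y := by
  rw [h]
  exact Submodule.subset_span (Set.mem_range_self j)

theorem exists_matrix {n : ℕ} {P : ∀ x : C, Submodule (C.presheaf.stalk x) W} {x y : C} {v w : Fin n → W}
    (hv : IsFrame P x v) (hw : IsFrame P y w) :
    ∃ A : Matrix (Fin n) (Fin n) C.functionField, A.det ≠ 0 ∧ ∀ j, w j = ∑ i, A i j • v i := by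
  obtain ⟨U, hxU, hvi, hU⟩ := hv
  obtain ⟨V, hyV, hwi, hV⟩ := hw
  have h2 : ∀ j, ∃ c : Fin n → C.functionField, ∑ i, c i • v i = w j := fun j =>
    exists_coord (hU _ (mem_of_nonempty hxU)) (w j) (mem_of_frame (hV _ (mem_of_nonempty hyV)) j)
  choose c hc using h2
  refine ⟨Matrix.of fun i j => c j i, ?_, fun j => (hc j).symm⟩
  intro h0
  obtain ⟨z, hz, hz0⟩ := Matrix.exists_mulVec_eq_zero_iff.2 h0
  apply hz
  rw [Fintype.linearIndependent_iff] at hwi
  funext j
  refine hwi z ?_ j
  calc ∑ j, z j • w j = ∑ j, ∑ i, (z j * c j i) • v i := by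
        refine Finset.sum_congr rfl fun j _ => ?_
        rw [← hc j, Finset.smul_sum]
        simp only [smul_smul]
    _ = ∑ i, (∑ j, c j i * z j) • v i := by
        rw [Finset.sum_comm]
        refine Finset.sum_congr rfl fun i _ => ?_
        rw [Finset.sum_smul]
        refine Finset.sum_congr rfl fun j _ => ?_
        rw [mul_comm]
    _ = 0 := by
        refine Finset.sum_eq_zero fun i _ => ?_
        have h4 := congrFun hz0 i
        rw [Matrix.mulVec, dotProduct] at h4
        simp only [Matrix.of_apply] at h4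
        rw [h4, Pi.zero_apply, zero_smul]

/-- **Twisting a lattice by finitely many points.** -/
theorem nice_twist [IsAlgClosed k] (hdim : topologicalKrullDim C = 1)
    (hreg : ∀ x : C, IsPrincipalIdealRing (C.presheaf.stalk x)) {n : ℕ}
    (P P' : ∀ x : C, Submodule (C.presheaf.stalk x) W) (hP : Nice P n) (B : Finset C)
    (hB : ∀ b ∈ B, IsClosed ({b} : Set C))
    (h1 : ∀ x, x ∉ B → P' x = P x) (h2 : ∀ x ∈ B, P' x = IsLocalRing.maximalIdeal (C.presheaf.stalk x) • P x) :
    Nice P' n ∧ Curv2.euler k C (mod P') = Curv2.euler k C (mod P) - n * B.card := by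
  classical
  choose v hv using fun x => nice_iff.mp hP x
  choose t ht htv ht1 ht0 using fun x => exists_frame k hdim hreg P P' B hB h1 h2 x (v x) (hv x)
  refine ⟨nice_iff.mpr fun x => ⟨_, htv x⟩, ?_⟩
  -- a rational basis and its coordinates
  have hw : LinearIndependent C.functionField (v (genericPoint C)) := by
    obtain ⟨-, -, h, -⟩ := hv (genericPoint C)
    exact h
  choose A hA0 hA using fun x => exists_matrix (hv x) (hv (genericPoint C))
  obtain ⟨f1, e1⟩ := euler_nice k hdim hreg v hv (v (genericPoint C)) hw A hA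
  obtain ⟨f2, e2⟩ := euler_nice k hdim hreg (fun x i => t x • v x i) htv (v (genericPoint C)) hw
    (fun x => (t x)⁻¹ • A x) (fun x j => by
      conv_lhs => rw [hA x j]
      refine Finset.sum_congr rfl fun i _ => ?_
      rw [Matrix.smul_apply, smul_smul, smul_eq_mul, mul_comm, ← mul_assoc, mul_inv_cancel₀ (ht x), one_mul])
  have key : ∀ x, CycAlg.ordFrac (C.presheaf.stalk x) C.functionField ((t x)⁻¹ • A x).det =
      CycAlg.ordFrac (C.presheaf.stalk x) C.functionField (A x).det - n * (if x ∈ B then 1 else 0 : ℤ) := by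
    intro x
    have := hreg x
    rw [Matrix.det_smul, Fintype.card_fin, CycB.OrdFrac.ordFrac_mul _ _ (pow_ne_zero _ (inv_ne_zero (ht x))) (hA0 x),
      CycB.OrdFrac.ordFrac_pow, CycB.OrdFrac.ordFrac_inv]
    by_cases hx : x ∈ B
    · rw [if_pos hx, ht1 x hx]
      ring
    · rw [if_neg hx, ht0 x hx]
      ring
  have f3 : {x : C | ((n : ℤ) * (if x ∈ B then 1 else 0 : ℤ)) ≠ 0}.Finite := by
    refine B.finite_toSet.subset fun x hx => ?_
    by_contra h
    exact hx (by rw [if_neg (show x ∉ B from h), mul_zero])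
  have e3 : ∑ᶠ x ∈ {x : C | IsClosed ({x} : Set C)}, ((C ↘ Spec (CommRingCat.of k)).residueDegree x : ℤ) *
      ((n : ℤ) * (if x ∈ B then 1 else 0 : ℤ)) = n * B.card := by
    rw [finsum_mem_eq_sum_of_inter_support_eq (t := B)]
    · rw [Finset.sum_congr rfl (g := fun _ => (n : ℤ)), Finset.sum_const, nsmul_eq_mul, mul_comm]
      intro x hx
      rw [if_pos hx, CurvesA.ResDegOne.residueDegree_eq_one _ x (hB x hx)]
      ring
    · ext x
      constructor
      · rintro ⟨-, hx⟩
        refine ⟨?_, hx⟩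
        by_contra h
        exact hx (by change _ * ((n : ℤ) * (if x ∈ B then 1 else 0 : ℤ)) = 0; rw [if_neg (show x ∉ B from h)]; ring)
      · rintro ⟨hx, hx'⟩
        exact ⟨hB x hx, hx'⟩
  have e4 : ∑ᶠ x ∈ {x : C | IsClosed ({x} : Set C)}, ((C ↘ Spec (CommRingCat.of k)).residueDegree x : ℤ) *
        CycAlg.ordFrac (C.presheaf.stalk x) C.functionField ((t x)⁻¹ • A x).det =
      (∑ᶠ x ∈ {x : C | IsClosed ({x} : Set C)}, ((C ↘ Spec (CommRingCat.of k)).residueDegree x : ℤ) *
        CycAlg.ordFrac (C.presheaf.stalk x) C.functionField (A x).det) - n * B.card := by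
    rw [← e3, ← finsum_mem_sub _ _ _ (finite_mul _ _ f1) (finite_mul _ _ f3)]
    refine finsum_mem_congr rfl fun x _ => ?_
    rw [key]
    ring
  rw [e4] at e2
  linarith

end K703.LatTwist
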