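import Groth.Agent.Curves.K703.LatTwist

/-!
# Node 3 of helper756's plan for Mori's dimension bound, in the exact form of the plan
-/

set_option autoImplicit false
universe u
open CategoryTheory CategoryTheory.Limits AlgebraicGeometry TopologicalSpace Opposite
open K756.LatSh

namespace K703.Node3

export K703.LatDual (IsIntAt)

section Dual

variable (k : Type u) [Field k] (C : Scheme.{u}) [C.Over (Spec (CommRingCat.of k))] [IsIntegral C]
  [IsProper (C ↘ Spec (CommRingCat.of k))]
  {W : Type u} [AddCommGroup W] [∀ x : C, Module (C.presheaf.stalk x) W] [Module C.functionField W]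
  [∀ x : C, IsScalarTower (C.presheaf.stalk x) C.functionField W]

theorem nice_dual (hdim : topologicalKrullDim C = 1)
    (hreg : ∀ x : C, IsPrincipalIdealRing (C.presheaf.stalk x)) {M : C.Modules} {n : ℕ}
    (hM : FlatMod.IsFinLocFreeOfRank n M) (P : ∀ x : C, Submodule (C.presheaf.stalk x) W)
    (Φ : Module.Dual C.functionField (M.presheaf.stalk (genericPoint C)) →ₗ[C.functionField] W)
    (hΦ : Function.Injective Φ)
    (hP : ∀ (x : C) (w : W), w ∈ P x ↔ ∃ ξ, IsIntAt M x ξ ∧ Φ ξ = w) :
    Nice P n ∧ Curv2.euler k C (mod P) + Curv2.euler k C M = 2 * n * Curv2.euler k C (Coh.structureModule C) :=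
  K703.LatDual.nice_dual k hdim hreg hM P Φ hΦ hP

/-- twisting a lattice by finitely many points -/
theorem nice_twist [IsAlgClosed k] (hdim : topologicalKrullDim C = 1)
    (hreg : ∀ x : C, IsPrincipalIdealRing (C.presheaf.stalk x)) {n : ℕ}
    (P P' : ∀ x : C, Submodule (C.presheaf.stalk x) W) (hP : Nice P n) (B : Finset C)
    (hB : ∀ b ∈ B, IsClosed ({b} : Set C))
    (h1 : ∀ x, x ∉ B → P' x = P x) (h2 : ∀ x ∈ B, P' x = IsLocalRing.maximalIdeal (C.presheaf.stalk x) • P x) :
    Nice P' n ∧ Curv2.euler k C (mod P') = Curv2.euler k C (mod P) - n * B.card :=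
  K703.LatTwist.nice_twist k hdim hreg P P' hP B hB h1 h2

end Dual

end K703.Node3
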